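import Cfsg.Agent.H978.Alm.Affine_m3
import Cfsg.Agent.H531.LemX_m3
import Cfsg.Agent.H7.NBpCount
import Cfsg.Agent.FastGrp
import Cfsg.Agent.Prune
set_option linter.all false
prune_inst 0x7ffdfef8ffb8ffffffff7ffffff9dffe39d7dfffffdfff4bfffdffffdfff236f3fe5fbbf9de4d8ffdff7e2be30b87853fbfeee7faf6fdc7ffffdfff45ffbec1f976fbfa971df9cb41ffc6ffffbf37fffffffffffffffffffffffffffffffffffffffffbfffff
open scoped Cfsg.Agent.FastGrp

/-!
# S4790, T22: a nonabelian minimal normal subgroup (helper978)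
-/

set_option autoImplicit false
set_option linter.unusedSectionVars false

namespace Cfsg.Agent.H978.Alm.Nonab

open Subgroup Cfsg Cfsg.Agent.H697.Alm
open Cfsg.Agent.Lib.MinNormalNonabelian Cfsg.Agent.H531.Red Cfsg.Agent.H531.LemX
open scoped Pointwise

universe u

variable {G : Type u} [Group G]

attribute [local instance] act

/-- `T` a component of `N`, `π` a homomorphism of its normalizer with kernel its centralizer -/
structure Dat (N : Subgroup G) [N.Normal] (T : minSet N) {A : Type u} [Group A]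
    (π : ↥(normalizer (T.1 : Set G)) →* A) : Prop where
  str : Str N
  surj : Function.Surjective π
  ker : ∀ u, π u = 1 ↔ ∀ s ∈ T.1, Commute (u : G) s
  cenN : centralizer (N : Set G) = ⊥

/-- `a` is one of the classes of `A` given by `g` -/
def R {N : Subgroup G} [N.Normal] {T : minSet N} {A : Type u} [Group A]
    (π : ↥(normalizer (T.1 : Set G)) →* A) (g : G) (a : ConjClasses A) : Prop :=
  ∃ (h : G) (hu : h * g * h⁻¹ ∈ normalizer (T.1 : Set G)), ConjClasses.mk (π ⟨h * g * h⁻¹, hu⟩) = a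

section

variable {N : Subgroup G} [N.Normal] {T : minSet N} {A : Type u} [Group A] {π : ↥(normalizer (T.1 : Set G)) →* A}

theorem R_conj {g k : G} {a : ConjClasses A} (h : R π (k * g * k⁻¹) a) : R π g a := by
  obtain ⟨x, hx, rfl⟩ := h
  have e : x * k * g * (x * k)⁻¹ = x * (k * g * k⁻¹) * x⁻¹ := by group
  refine ⟨x * k, by rw [e]; exact hx, ?_⟩
  congr 2
  exact Subtype.ext e

theorem R_of_isConj {g g' : G} (hg : IsConj g g') {a : ConjClasses A} (h : R π g' a) : R π g a := by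
  obtain ⟨k, rfl⟩ := isConj_iff.1 hg
  exact R_conj h

theorem le_norm : N ≤ normalizer (T.1 : Set G) := T.2.2.2.1

/-- the class depends only on `h⁻¹ • T` -/
theorem R_uniq [Finite G] {g h k : G} (hh : h * g * h⁻¹ ∈ normalizer (T.1 : Set G))
    (hk : k * g * k⁻¹ ∈ normalizer (T.1 : Set G)) (e : h⁻¹ • T = k⁻¹ • T) :
    ConjClasses.mk (π ⟨h * g * h⁻¹, hh⟩) = ConjClasses.mk (π ⟨k * g * k⁻¹, hk⟩) := by
  have hu : k * h⁻¹ ∈ normalizer (T.1 : Set G) := by
    rw [← mem_normalizer_iff_smul, mul_smul, e, smul_inv_smul]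
  rw [ConjClasses.mk_eq_mk_iff_isConj, isConj_iff]
  refine ⟨π ⟨k * h⁻¹, hu⟩, ?_⟩
  rw [← map_inv, ← map_mul, ← map_mul]
  congr 1
  apply Subtype.ext
  show k * h⁻¹ * (h * g * h⁻¹) * (k * h⁻¹)⁻¹ = k * g * k⁻¹
  group

namespace Dat

variable (D : Dat N T π)
include D

theorem split {x : G} (hx : x ∈ N) : ∃ s ∈ T.1, ∀ r ∈ T.1, Commute (s⁻¹ * x) r := by
  let M : Subgroup G :=
    { carrier := {x | ∃ s ∈ T.1, ∀ r ∈ T.1, Commute (s⁻¹ * x) r}
      one_mem' := ⟨1, one_mem _, fun r _ => by rw [inv_one, one_mul]; exact Commute.one_left r⟩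
      mul_mem' := by
        rintro a b ⟨s, hs, h1⟩ ⟨t, ht, h2⟩
        refine ⟨s * t, mul_mem hs ht, fun r hr => ?_⟩
        have e : (s * t)⁻¹ * (a * b) = (s⁻¹ * a) * (t⁻¹ * b) := by
          have h3 := (h1 t⁻¹ (inv_mem ht)).eq
          calc (s * t)⁻¹ * (a * b) = t⁻¹ * (s⁻¹ * a) * b := by group
            _ = (s⁻¹ * a) * t⁻¹ * b := by rw [h3]
            _ = _ := by group
        rw [e]
        exact (h1 r hr).mul_left (h2 r hr)
      inv_mem' := by
        rintro a ⟨s, hs, h1⟩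
        refine ⟨s⁻¹, inv_mem hs, fun r hr => ?_⟩
        have h3 := (h1 s hs).eq
        have e : s⁻¹⁻¹ * a⁻¹ = (s⁻¹ * a)⁻¹ := by
          rw [inv_inv, mul_inv_rev, inv_inv]
          have h4 : s⁻¹ * a * s = a := by rw [h3]; group
          have h5 : a * s = s * a := by
            calc a * s = s * (s⁻¹ * a * s) := by group
              _ = s * a := by rw [h4]
          calc s * a⁻¹ = a⁻¹ * (a * s) * a⁻¹ := by group
            _ = a⁻¹ * (s * a) * a⁻¹ := by rw [h5]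
            _ = a⁻¹ * s := by group
        rw [e]
        exact (h1 r hr).inv_left }
  have h1 : N ≤ M := by
    rw [← D.str.gen]
    refine sSup_le fun V hV y hy => ?_
    by_cases h : V = T.1
    · exact ⟨y, h ▸ hy, fun r _ => by rw [inv_mul_cancel]; exact Commute.one_left r⟩
    · refine ⟨1, one_mem _, fun r hr => ?_⟩
      rw [inv_one, one_mul]
      exact D.str.comm ⟨V, hV⟩ T (fun h' => h (congrArg Subtype.val h')) y hy r hr
  exact h1 hx

theorem inj {s : G} (hs : s ∈ T.1) (h : π ⟨s, le_normalizer hs⟩ = 1) : s = 1 :=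
  D.str.cen T s hs ((D.ker _).1 h)

theorem orderOf_eq {s : G} (hs : s ∈ T.1) : orderOf (π ⟨s, le_normalizer hs⟩) = orderOf s := by
  apply Nat.dvd_antisymm
  · apply orderOf_dvd_of_pow_eq_one
    rw [← map_pow]
    have e : (⟨s, le_normalizer hs⟩ : ↥(normalizer (T.1 : Set G))) ^ orderOf s = 1 :=
      Subtype.ext (pow_orderOf_eq_one s)
    rw [e, map_one]
  · apply orderOf_dvd_of_pow_eq_one
    have h1 := pow_orderOf_eq_one (π ⟨s, le_normalizer hs⟩)
    rw [← map_pow] at h1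
    exact D.inj (pow_mem hs _) h1

/-- the image of `T` -/
theorem mem_map {b : A} : b ∈ (T.1.subgroupOf (normalizer (T.1 : Set G))).map π ↔
    ∃ (s : G) (hs : s ∈ T.1), π ⟨s, le_normalizer hs⟩ = b := by
  constructor
  · rintro ⟨x, hx, rfl⟩
    exact ⟨x, hx, rfl⟩
  · rintro ⟨s, hs, rfl⟩
    exact ⟨_, hs, rfl⟩

theorem map_of_mem {x : G} (hx : x ∈ N) :
    π ⟨x, le_norm hx⟩ ∈ (T.1.subgroupOf (normalizer (T.1 : Set G))).map π := by
  obtain ⟨s, hs, h⟩ := D.split hx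
  rw [D.mem_map]
  refine ⟨s, hs, ?_⟩
  have h1 : π (⟨s, le_normalizer hs⟩⁻¹ * ⟨x, le_norm hx⟩) = 1 := (D.ker _).2 h
  rw [map_mul, map_inv, inv_mul_eq_one] at h1
  exact h1

theorem eq_one_of_comm {x : G} (h : ∀ V : minSet N, ∀ s ∈ V.1, Commute x s) : x = 1 := by
  have h1 : x ∈ centralizer (N : Set G) := by
    have h2 : N ≤ centralizer ({x} : Set G) := by
      rw [← D.str.gen]
      refine sSup_le fun V hV y hy => ?_
      rw [mem_centralizer_singleton_iff]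
      exact (h ⟨V, hV⟩ y hy).eq.symm
    rw [mem_centralizer_iff]
    intro y hy
    exact mem_centralizer_singleton_iff.1 (h2 hy)
  rwa [D.cenN, mem_bot] at h1

/-- an element of `A` whose order is not divisible by `p ^ 2` lifts to such an element -/
theorem lift [Finite G] {p : ℕ} [hp : Fact p.Prime]
    (hidx : ¬ p ∣ ((T.1.subgroupOf (normalizer (T.1 : Set G))).map π).index) {b : A} (hb : ¬ p ^ 2 ∣ orderOf b) :
    ∃ u : ↥(normalizer (T.1 : Set G)), π u = b ∧ ¬ p ^ 2 ∣ orderOf (u : G) := by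
  obtain ⟨e, he⟩ := Cfsg.Agent.H7.NBp.exists_PE (p := p) (G := G)
  obtain ⟨w, rfl⟩ := D.surj b
  have hSn : ((T.1.subgroupOf (normalizer (T.1 : Set G))).map π).Normal :=
    Subgroup.Normal.map inferInstance π D.surj
  -- the `p`-part of `b`
  have hv : ∃ i : ℕ, π (w * (w ^ e)⁻¹) ^ p ^ i = 1 := by
    obtain ⟨j, hj⟩ := he.pow (w : G)
    refine ⟨j, ?_⟩
    rw [← map_pow]
    have : (w * (w ^ e)⁻¹) ^ p ^ j = 1 := Subtype.ext hj
    rw [this, map_one]
  have hvS : π (w * (w ^ e)⁻¹) ∈ (T.1.subgroupOf (normalizer (T.1 : Set G))).map π := by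
    obtain ⟨i, hi⟩ := hv
    rw [← QuotientGroup.eq_one_iff]
    have h3 : ((π (w * (w ^ e)⁻¹) : A) : A ⧸ (T.1.subgroupOf (normalizer (T.1 : Set G))).map π) ^ (p ^ i) = 1 := by
      rw [← QuotientGroup.mk_pow, hi, QuotientGroup.mk_one]
    have h4 := orderOf_dvd_of_pow_eq_one h3
    have h5 : orderOf ((π (w * (w ^ e)⁻¹) : A) : A ⧸ (T.1.subgroupOf (normalizer (T.1 : Set G))).map π) ∣
      ((T.1.subgroupOf (normalizer (T.1 : Set G))).map π).index := _root_.orderOf_dvd_natCard _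
    have h6 := Nat.dvd_gcd h4 h5
    rw [Nat.Coprime.pow_left i ((Nat.Prime.coprime_iff_not_dvd hp.out).2 hidx), Nat.dvd_one] at h6
    exact orderOf_eq_one_iff.1 h6
  obtain ⟨s, hs, hsv⟩ := D.mem_map.1 hvS
  have hvp : orderOf (π (w * (w ^ e)⁻¹)) ∣ p := by
    obtain ⟨i, hi⟩ := hv
    obtain ⟨k, -, hk⟩ := (Nat.dvd_prime_pow hp.out).1 (orderOf_dvd_of_pow_eq_one hi)
    have h1 : π (w * (w ^ e)⁻¹) ∈ zpowers (π w) := by
      rw [map_mul, map_inv, map_pow]
      exact mul_mem (mem_zpowers _) (inv_mem (pow_mem (mem_zpowers _) _))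
    have h2 := orderOf_dvd_of_mem_zpowers h1
    rw [hk] at h2 ⊢
    have h3 : k < 2 := by
      by_contra h4
      exact hb ((pow_dvd_pow p (by omega)).trans h2)
    interval_cases k
    · rw [pow_zero]; exact one_dvd _
    · rw [pow_one]
  have hso : orderOf s ∣ p := by
    rw [← D.orderOf_eq hs, hsv]
    exact hvp
  refine ⟨⟨s, le_normalizer hs⟩ * w ^ e, ?_, ?_⟩
  · rw [map_mul, hsv, ← map_mul, inv_mul_cancel_right]
  · -- `s` and `w ^ e` commute
    have hcm : Commute s ((w ^ e : ↥(normalizer (T.1 : Set G))) : G) := by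
      have h1 : ((w ^ e : ↥(normalizer (T.1 : Set G))) : G) * s * ((w ^ e : ↥(normalizer (T.1 : Set G))) : G)⁻¹ ∈ T.1 :=
        (mem_normalizer_iff.1 (w ^ e).2 s).1 hs
      have h2 : ((w ^ e : ↥(normalizer (T.1 : Set G))) : G) * s * ((w ^ e : ↥(normalizer (T.1 : Set G))) : G)⁻¹ * s⁻¹ = 1 := by
        apply D.inj (mul_mem h1 (inv_mem hs))
        have h3 : (⟨((w ^ e : ↥(normalizer (T.1 : Set G))) : G) * s * ((w ^ e : ↥(normalizer (T.1 : Set G))) : G)⁻¹ * s⁻¹,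
            le_normalizer (mul_mem h1 (inv_mem hs))⟩ : ↥(normalizer (T.1 : Set G))) =
            w ^ e * ⟨s, le_normalizer hs⟩ * (w ^ e)⁻¹ * ⟨s, le_normalizer hs⟩⁻¹ := rfl
        rw [h3, map_mul, map_mul, map_mul, map_inv, map_inv, hsv, mul_inv_eq_one, mul_inv_eq_iff_eq_mul, ← map_mul,
          ← map_mul]
        congr 1
        group
      exact (mul_inv_eq_iff_eq_mul.1 (mul_inv_eq_one.1 h2)).symm
    intro hd
    have h1 : (s * ((w ^ e : ↥(normalizer (T.1 : Set G))) : G)) ^ (p * orderOf ((w : G) ^ e)) = 1 := by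
      rw [hcm.mul_pow]
      have h2 : s ^ (p * orderOf ((w : G) ^ e)) = 1 := by
        rw [← orderOf_dvd_iff_pow_eq_one]
        exact hso.trans (Dvd.intro _ rfl)
      have h3 : ((w ^ e : ↥(normalizer (T.1 : Set G))) : G) ^ (p * orderOf ((w : G) ^ e)) = 1 := by
        rw [← orderOf_dvd_iff_pow_eq_one]
        exact Dvd.intro_left _ rfl
      rw [h2, h3, one_mul]
    have h2 := hd.trans (orderOf_dvd_of_pow_eq_one h1)
    rw [pow_two] at h2
    exact he.pp w (Nat.dvd_of_mul_dvd_mul_left hp.out.pos h2)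

/-- the classes outside the image of `T` -/
theorem card_out [Finite G] [Finite A] {p : ℕ} [hp : Fact p.Prime]
    (hidx : ¬ p ∣ ((T.1.subgroupOf (normalizer (T.1 : Set G))).map π).index) :
    Nat.card {a : ConjClasses A // ∃ b : A, b ∉ (T.1.subgroupOf (normalizer (T.1 : Set G))).map π ∧
      ConjClasses.mk b = a ∧ ¬ p ^ 2 ∣ orderOf b} ≤
    Nat.card {c : ConjClasses G // ∃ g : G, g ∉ N ∧ ConjClasses.mk g = c ∧ ¬ p ^ 2 ∣ orderOf g} *
      Nat.card (minSet N) := by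
  rw [← Nat.card_prod]
  have key : ∀ a : {a : ConjClasses A // ∃ b : A, b ∉ (T.1.subgroupOf (normalizer (T.1 : Set G))).map π ∧
      ConjClasses.mk b = a ∧ ¬ p ^ 2 ∣ orderOf b},
      ∃ (c : {c : ConjClasses G // ∃ g : G, g ∉ N ∧ ConjClasses.mk g = c ∧ ¬ p ^ 2 ∣ orderOf g}) (h : G)
        (hu : h * Quotient.out c.1 * h⁻¹ ∈ normalizer (T.1 : Set G)),
        ConjClasses.mk (π ⟨h * Quotient.out c.1 * h⁻¹, hu⟩) = a.1 := by
    rintro ⟨a, b, hbS, rfl, hb⟩
    obtain ⟨u, rfl, hu⟩ := D.lift hidx hb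
    have huN : (u : G) ∉ N := fun h => hbS (D.map_of_mem h)
    refine ⟨⟨ConjClasses.mk (u : G), u, huN, rfl, hu⟩, ?_⟩
    have h1 : R π (u : G) (ConjClasses.mk (π u)) := by
      refine ⟨1, by rw [one_mul, inv_one, mul_one]; exact u.2, ?_⟩
      congr 2
      apply Subtype.ext
      show 1 * (u : G) * 1⁻¹ = u
      group
    have h2 : IsConj (Quotient.out (ConjClasses.mk (u : G))) (u : G) :=
      ConjClasses.mk_eq_mk_iff_isConj.1 (Quotient.out_eq (ConjClasses.mk (u : G)))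
    exact R_of_isConj h2 h1
  choose c h hu hh using key
  refine Nat.card_le_card_of_injective (fun a => (c a, (h a)⁻¹ • T)) ?_
  intro a a' haa
  have h1 : c a = c a' := congrArg Prod.fst haa
  have h2 : (h a)⁻¹ • T = (h a')⁻¹ • T := congrArg Prod.snd haa
  apply Subtype.ext
  rw [← hh a, ← hh a']
  have key2 : ∀ (g g' : G) (_ : g = g') (hg : h a * g * (h a)⁻¹ ∈ normalizer (T.1 : Set G))
      (hg' : h a' * g' * (h a')⁻¹ ∈ normalizer (T.1 : Set G)),
      ConjClasses.mk (π ⟨h a * g * (h a)⁻¹, hg⟩) = ConjClasses.mk (π ⟨h a' * g' * (h a')⁻¹, hg'⟩) := by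
    rintro g _ rfl hg hg'
    exact R_uniq hg hg' h2
  exact key2 _ _ (by rw [h1]) _ _

end Dat

/-- the number of components which `x` does not centralize -/
noncomputable def nc (N : Subgroup G) (x : G) : ℕ :=
  Nat.card {V : minSet N // ¬ ∀ r ∈ V.1, Commute x r}

theorem nc_conj (g x : G) : nc N (g * x * g⁻¹) = nc N x := by
  unfold nc
  have key : ∀ V : minSet N, (¬ ∀ r ∈ V.1, Commute x r) ↔ (¬ ∀ r ∈ (g • V).1, Commute (g * x * g⁻¹) r) := by
    intro V
    rw [not_iff_not, Cfsg.Agent.H531.LemX.smul_coe]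
    constructor
    · rintro h _ ⟨r, hr, rfl⟩
      exact (h r hr).map (MulAut.conj g).toMonoidHom
    · intro h r hr
      have h1 := h _ ⟨r, hr, rfl⟩
      have h2 := h1.map (MulAut.conj g⁻¹).toMonoidHom
      have e1 : (MulAut.conj g⁻¹).toMonoidHom (g * x * g⁻¹) = x := by
        show g⁻¹ * (g * x * g⁻¹) * g⁻¹⁻¹ = x
        group
      have e2 : (MulAut.conj g⁻¹).toMonoidHom ((MulAut.conj g).toMonoidHom r) = r := by
        show g⁻¹ * (g * r * g⁻¹) * g⁻¹⁻¹ = r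
        group
      rwa [e1, e2] at h2
  exact (Nat.card_congr ((MulAction.toPerm g : Equiv.Perm (minSet N)).subtypeEquiv key)).symm

theorem nc_one : nc N (1 : G) = 0 := by
  unfold nc
  have : IsEmpty {V : minSet N // ¬ ∀ r ∈ V.1, Commute (1 : G) r} := ⟨fun V => V.2 fun r _ => Commute.one_left r⟩
  exact Nat.card_of_isEmpty

namespace Dat

variable (D : Dat N T π)
include D

theorem exists_elt [Finite G] (J : Finset (minSet N)) (hJ : J.Nonempty) {s : G} (hs : s ∈ T.1) (hs1 : s ≠ 1) :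
    ∃ x ∈ N, orderOf x ∣ orderOf s ∧ nc N x = J.card ∧ R π x (ConjClasses.mk (π ⟨s, le_normalizer hs⟩)) ∧
      ∀ a, R π x a → a = ConjClasses.mk 1 ∨ a = ConjClasses.mk (π ⟨s, le_normalizer hs⟩) := by
  classical
  choose tr htr using D.str.trans T
  have htr' : ∀ V : minSet N, (tr V)⁻¹ • V = T := fun V => by rw [← htr V, smul_smul, htr V, inv_mul_cancel, one_smul]
  let f : minSet N → G := fun V => if V ∈ J then tr V * s * (tr V)⁻¹ else 1
  have hf1 : ∀ V ∈ J, f V = tr V * s * (tr V)⁻¹ := fun V hV => if_pos hV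
  have hf2 : ∀ V ∉ J, f V = 1 := fun V hV => if_neg hV
  have hf : ∀ V, f V ∈ V.1 := by
    intro V
    by_cases hV : V ∈ J
    · rw [hf1 V hV]
      have h1 : tr V * s * (tr V)⁻¹ ∈ (tr V • T).1 := by
        rw [Cfsg.Agent.H531.LemX.smul_coe]
        exact ⟨s, hs, rfl⟩
      rwa [htr V] at h1
    · rw [hf2 V hV]; exact one_mem _
  let _ : Fintype (minSet N) := Fintype.ofFinite _
  obtain ⟨x, hxN, hx, -⟩ := exists_prod' (fun V : minSet N => V.1) N (fun V => V.2.1) D.str.comm f hf Finset.univ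
  replace hx := fun V => hx V (Finset.mem_univ V)
  have hcm : ∀ V : minSet N, (∀ r ∈ V.1, Commute x r) ↔ V ∉ J := by
    intro V
    constructor
    · intro h hV
      have h1 : f V = 1 := by
        apply D.str.cen V _ (hf V)
        intro r hr
        have e : f V = x * ((f V)⁻¹ * x)⁻¹ := by group
        rw [e]
        exact (h r hr).mul_left (hx V r hr).inv_left
      rw [hf1 V hV] at h1
      apply hs1
      have h2 := congrArg (fun y => (tr V)⁻¹ * y * tr V) h1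
      simpa [mul_assoc] using h2
    · intro hV r hr
      have h1 := hx V r hr
      rwa [hf2 V hV, inv_one, one_mul] at h1
  have hU : ∀ h : G, h * x * h⁻¹ ∈ normalizer (T.1 : Set G) := fun h =>
    le_norm (Normal.conj_mem inferInstance x hxN h)
  -- the class at `V ∈ J`
  have hJc : ∀ V ∈ J, ConjClasses.mk (π ⟨(tr V)⁻¹ * x * (tr V)⁻¹⁻¹, hU _⟩) =
      ConjClasses.mk (π ⟨s, le_normalizer hs⟩) := by
    intro V hV
    congr 1
    have h1 : π (⟨s, le_normalizer hs⟩⁻¹ * ⟨(tr V)⁻¹ * x * (tr V)⁻¹⁻¹, hU _⟩) = 1 := by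
      rw [D.ker]
      intro r hr
      have h2 : tr V * r * (tr V)⁻¹ ∈ V.1 := by
        have h3 : tr V * r * (tr V)⁻¹ ∈ (tr V • T).1 := by
          rw [Cfsg.Agent.H531.LemX.smul_coe]
          exact ⟨r, hr, rfl⟩
        rwa [htr V] at h3
      have h4 := (hx V _ h2).map (MulAut.conj (tr V)⁻¹).toMonoidHom
      have e1 : (MulAut.conj (tr V)⁻¹).toMonoidHom ((f V)⁻¹ * x) =
          ((⟨s, le_normalizer hs⟩⁻¹ * ⟨(tr V)⁻¹ * x * (tr V)⁻¹⁻¹, hU _⟩ : ↥(normalizer (T.1 : Set G))) : G) := by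
        rw [hf1 V hV]
        show (tr V)⁻¹ * ((tr V * s * (tr V)⁻¹)⁻¹ * x) * (tr V)⁻¹⁻¹ = s⁻¹ * ((tr V)⁻¹ * x * (tr V)⁻¹⁻¹)
        group
      have e2 : (MulAut.conj (tr V)⁻¹).toMonoidHom (tr V * r * (tr V)⁻¹) = r := by
        show (tr V)⁻¹ * (tr V * r * (tr V)⁻¹) * (tr V)⁻¹⁻¹ = r
        group
      rwa [e1, e2] at h4
    rw [map_mul, map_inv, inv_mul_eq_one] at h1
    exact h1.symm
  refine ⟨x, hxN, ?_, ?_, ?_, ?_⟩
  · apply orderOf_dvd_of_pow_eq_one
    apply D.eq_one_of_comm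
    intro V r hr
    have h1 := hx V
    have h2 : Commute (f V) ((f V)⁻¹ * x) := (h1 _ (hf V)).symm
    have h3 : x ^ orderOf s = ((f V)⁻¹ * x) ^ orderOf s := by
      have h4 : x = f V * ((f V)⁻¹ * x) := by group
      have h5 : (f V) ^ orderOf s = 1 := by
        by_cases hV : V ∈ J
        · rw [hf1 V hV, conj_pow, pow_orderOf_eq_one, mul_one, mul_inv_cancel]
        · rw [hf2 V hV, one_pow]
      calc x ^ orderOf s = (f V * ((f V)⁻¹ * x)) ^ orderOf s := by rw [← h4]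
        _ = _ := by rw [h2.mul_pow, h5, one_mul]
    rw [h3]
    exact (h1 r hr).pow_left _
  · unfold nc
    rw [Nat.card_eq_fintype_card, Fintype.card_subtype]
    congr 1
    ext V
    rw [Finset.mem_filter, hcm V, not_not]
    exact ⟨fun h => h.2, fun h => ⟨Finset.mem_univ _, h⟩⟩
  · obtain ⟨V, hV⟩ := hJ
    exact ⟨(tr V)⁻¹, hU _, hJc V hV⟩
  · rintro a ⟨h, hu, rfl⟩
    by_cases hV : h⁻¹ • T ∈ J
    · right
      rw [← hJc _ hV]
      refine R_uniq _ _ ?_
      rw [inv_inv, htr]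
    · left
      congr 1
      rw [D.ker]
      intro r hr
      have h1 := (hcm _).2 hV (h⁻¹ * r * h⁻¹⁻¹) (by rw [Cfsg.Agent.H531.LemX.smul_coe]; exact ⟨r, hr, rfl⟩)
      have h2 := h1.map (MulAut.conj h).toMonoidHom
      have e : (MulAut.conj h).toMonoidHom (h⁻¹ * r * h⁻¹⁻¹) = r := by
        show h * (h⁻¹ * r * h⁻¹⁻¹) * h⁻¹ = r
        group
      rwa [e] at h2

/-- the classes of `G` inside and outside `N` -/
theorem card_in [Finite G] [Finite A] {p : ℕ} [hp : Fact p.Prime] :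
    Nat.card (minSet N) * Nat.card {a : ConjClasses A // a ≠ ConjClasses.mk 1 ∧
      ∃ b ∈ (T.1.subgroupOf (normalizer (T.1 : Set G))).map π, ConjClasses.mk b = a ∧ ¬ p ^ 2 ∣ orderOf b} + 1 +
    Nat.card {c : ConjClasses G // ∃ g : G, g ∉ N ∧ ConjClasses.mk g = c ∧ ¬ p ^ 2 ∣ orderOf g} ≤ kap p G := by
  classical
  let _ : Fintype (minSet N) := Fintype.ofFinite _
  have key : ∀ q : Fin (Nat.card (minSet N)) × {a : ConjClasses A // a ≠ ConjClasses.mk 1 ∧
      ∃ b ∈ (T.1.subgroupOf (normalizer (T.1 : Set G))).map π, ConjClasses.mk b = a ∧ ¬ p ^ 2 ∣ orderOf b},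
      ∃ x : G, x ∈ N ∧ ¬ p ^ 2 ∣ orderOf x ∧ nc N x = (q.1 : ℕ) + 1 ∧ R π x q.2.1 ∧
        ∀ a, R π x a → a = ConjClasses.mk 1 ∨ a = q.2.1 := by
    rintro ⟨j, a, ha1, b, hbS, rfl, hb⟩
    obtain ⟨s, hs, rfl⟩ := D.mem_map.1 hbS
    have hj : (j : ℕ) + 1 ≤ (Finset.univ : Finset (minSet N)).card := by
      rw [Finset.card_univ, ← Nat.card_eq_fintype_card]
      exact j.2
    obtain ⟨J, -, hJ⟩ := Finset.exists_subset_card_eq hj
    have hJn : J.Nonempty := by
      rw [← Finset.card_pos, hJ]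
      exact Nat.succ_pos _
    have hs1 : s ≠ 1 := by
      rintro rfl
      apply ha1
      congr 1
      exact map_one π
    obtain ⟨x, h1, h2, h3, h4, h5⟩ := D.exists_elt J hJn hs hs1
    refine ⟨x, h1, fun h => hb ?_, by rw [h3, hJ], h4, h5⟩
    rw [D.orderOf_eq hs]
    exact h.trans h2
  choose x hxN hxo hxn hxR hxU using key
  let F : (Option (Fin (Nat.card (minSet N)) × {a : ConjClasses A // a ≠ ConjClasses.mk 1 ∧
      ∃ b ∈ (T.1.subgroupOf (normalizer (T.1 : Set G))).map π, ConjClasses.mk b = a ∧ ¬ p ^ 2 ∣ orderOf b})) ⊕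
      {c : ConjClasses G // ∃ g : G, g ∉ N ∧ ConjClasses.mk g = c ∧ ¬ p ^ 2 ∣ orderOf g} →
      {c : ConjClasses G // ∃ g : G, ConjClasses.mk g = c ∧ ¬ p ^ 2 ∣ orderOf g} :=
    Sum.elim (fun o => o.elim ⟨ConjClasses.mk 1, 1, rfl, by
        rw [orderOf_one]
        intro h
        exact (Nat.one_lt_pow two_ne_zero hp.out.one_lt).ne' (Nat.dvd_one.1 h)⟩
      (fun q => ⟨ConjClasses.mk (x q), x q, rfl, hxo q⟩)) (fun c => ⟨c.1, by
        obtain ⟨g, -, h1, h2⟩ := c.2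
        exact ⟨g, h1, h2⟩⟩)
  have hnc : ∀ {g h : G}, ConjClasses.mk g = ConjClasses.mk h → nc N g = nc N h := by
    intro g h hgh
    obtain ⟨k, rfl⟩ := isConj_iff.1 (ConjClasses.mk_eq_mk_iff_isConj.1 hgh)
    exact (nc_conj k g).symm
  have hmemN : ∀ {g h : G}, ConjClasses.mk g = ConjClasses.mk h → g ∈ N → h ∈ N := by
    intro g h hgh hg
    obtain ⟨k, rfl⟩ := isConj_iff.1 (ConjClasses.mk_eq_mk_iff_isConj.1 hgh)
    exact Normal.conj_mem inferInstance g hg k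
  have hF : Function.Injective F := by
    rintro ((_ | q) | c) ((_ | q') | c') h
    · rfl
    · exfalso
      have h1 : ConjClasses.mk (1 : G) = ConjClasses.mk (x q') := congrArg Subtype.val h
      have h2 := hnc h1
      rw [nc_one, hxn] at h2
      omega
    · exfalso
      obtain ⟨g, hg, hg', -⟩ := c'.2
      have h1 : ConjClasses.mk (1 : G) = c'.1 := congrArg Subtype.val h
      rw [← hg'] at h1
      exact hg (hmemN h1 (one_mem N))
    · exfalso
      have h1 : ConjClasses.mk (x q) = ConjClasses.mk (1 : G) := congrArg Subtype.val h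
      have h2 := hnc h1
      rw [nc_one, hxn] at h2
      omega
    · have h1 : ConjClasses.mk (x q) = ConjClasses.mk (x q') := congrArg Subtype.val h
      have h2 := hnc h1
      rw [hxn, hxn] at h2
      have h3 : R π (x q) q'.2.1 := R_of_isConj (ConjClasses.mk_eq_mk_iff_isConj.1 h1) (hxR q')
      rcases hxU q _ h3 with h4 | h4
      · exact absurd h4 q'.2.2.1
      · have h5 : q = q' := Prod.ext (Fin.ext (by omega)) (Subtype.ext h4.symm)
        rw [h5]
    · exfalso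
      obtain ⟨g, hg, hg', -⟩ := c'.2
      have h1 : ConjClasses.mk (x q) = c'.1 := congrArg Subtype.val h
      rw [← hg'] at h1
      exact hg (hmemN h1 (hxN q))
    · exfalso
      obtain ⟨g, hg, hg', -⟩ := c.2
      have h1 : c.1 = ConjClasses.mk (1 : G) := congrArg Subtype.val h
      rw [← hg'] at h1
      exact hg (hmemN h1.symm (one_mem N))
    · exfalso
      obtain ⟨g, hg, hg', -⟩ := c.2
      have h1 : c.1 = ConjClasses.mk (x q') := congrArg Subtype.val h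
      rw [← hg'] at h1
      exact hg (hmemN h1.symm (hxN q'))
    · have h1 : (F (Sum.inr c)).1 = (F (Sum.inr c')).1 := congrArg Subtype.val h
      exact congrArg Sum.inr (Subtype.ext h1)
  have h1 := Nat.card_le_card_of_injective F hF
  rw [Nat.card_sum, Finite.card_option, Nat.card_prod, Nat.card_fin] at h1
  exact h1

end Dat

/-- the classes of `A` inside and outside of `S` -/
theorem kap_le [Finite A] {p : ℕ} (S : Subgroup A) : kap p A ≤
    Nat.card {a : ConjClasses A // a ≠ ConjClasses.mk 1 ∧ ∃ b ∈ S, ConjClasses.mk b = a ∧ ¬ p ^ 2 ∣ orderOf b} + 1 +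
    Nat.card {a : ConjClasses A // ∃ b : A, b ∉ S ∧ ConjClasses.mk b = a ∧ ¬ p ^ 2 ∣ orderOf b} := by
  classical
  unfold kap
  have h1 : {c : ConjClasses A | ∃ g : A, ConjClasses.mk g = c ∧ ¬ p ^ 2 ∣ orderOf g} ⊆
      ({a : ConjClasses A | a ≠ ConjClasses.mk 1 ∧ ∃ b ∈ S, ConjClasses.mk b = a ∧ ¬ p ^ 2 ∣ orderOf b} ∪
        {ConjClasses.mk 1}) ∪ {a : ConjClasses A | ∃ b : A, b ∉ S ∧ ConjClasses.mk b = a ∧ ¬ p ^ 2 ∣ orderOf b} := by
    rintro c ⟨g, rfl, hg⟩
    by_cases hS : g ∈ S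
    · left
      by_cases h1 : ConjClasses.mk g = ConjClasses.mk 1
      · right
        exact h1
      · left
        exact ⟨h1, g, hS, rfl, hg⟩
    · right
      exact ⟨g, hS, rfl, hg⟩
  have h2 := Set.ncard_le_ncard h1
  refine h2.trans ((Set.ncard_union_le _ _).trans ?_)
  refine Nat.add_le_add_right ((Set.ncard_union_le _ _).trans ?_) _
  rw [Set.ncard_singleton]
  exact le_rfl

/-! ### The almost simple group -/

section AS

variable {A : Type u} [Group A] [Finite A] (S : Subgroup A) [hSn : S.Normal] {p : ℕ} [hp : Fact p.Prime]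

theorem mem_of_pow (hidx : ¬ p ∣ S.index) {g : A} (hg : g ^ p = 1) : g ∈ S := by
  rw [← QuotientGroup.eq_one_iff]
  have h3 : ((g : A) : A ⧸ S) ^ p = 1 := by rw [← QuotientGroup.mk_pow, hg, QuotientGroup.mk_one]
  have h4 := orderOf_dvd_of_pow_eq_one h3
  have h5 : orderOf ((g : A) : A ⧸ S) ∣ S.index := _root_.orderOf_dvd_natCard _
  have h6 := Nat.dvd_gcd h4 h5
  rw [(Nat.Prime.coprime_iff_not_dvd hp.out).2 hidx, Nat.dvd_one] at h6
  exact orderOf_eq_one_iff.1 h6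

theorem orderOf_of_mk {g h : A} (e : ConjClasses.mk g = ConjClasses.mk h) : orderOf g = orderOf h := by
  obtain ⟨k, rfl⟩ := isConj_iff.1 (ConjClasses.mk_eq_mk_iff_isConj.1 e)
  exact (orderOf_injective (MulAut.conj k).toMonoidHom (MulAut.conj k).injective g).symm

theorem prime_sq_not_dvd {q : ℕ} (hq : q.Prime) : ¬ p ^ 2 ∣ q := by
  intro h
  rcases (Nat.dvd_prime hq).1 h with h1 | h1
  · exact (Nat.one_lt_pow two_ne_zero hp.out.one_lt).ne' h1
  · rw [← h1] at hq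
    exact Nat.Prime.not_prime_pow le_rfl hq

/-- the number of classes in `S` -/
theorem three_le (hidx : ¬ p ∣ S.index) {b₁ b₂ : A} (h1 : b₁ ∈ S) (h2 : b₂ ∈ S) (hq1 : (orderOf b₁).Prime)
    (hq2 : (orderOf b₂).Prime) (hne : orderOf b₁ ≠ orderOf b₂) (hp1 : orderOf b₁ ≠ p) (hp2 : orderOf b₂ ≠ p) :
    Nat.card {c : ConjClasses A // ∃ g : A, ConjClasses.mk g = c ∧ orderOf g = p} + 2 ≤
    Nat.card {a : ConjClasses A // a ≠ ConjClasses.mk 1 ∧ ∃ b ∈ S, ConjClasses.mk b = a ∧ ¬ p ^ 2 ∣ orderOf b} := by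
  have e1 : ({c : ConjClasses A | ∃ g : A, ConjClasses.mk g = c ∧ orderOf g = p} ∪
      {ConjClasses.mk b₁, ConjClasses.mk b₂}) ⊆
      {a : ConjClasses A | a ≠ ConjClasses.mk 1 ∧ ∃ b ∈ S, ConjClasses.mk b = a ∧ ¬ p ^ 2 ∣ orderOf b} := by
    rintro c (⟨g, rfl, hg⟩ | rfl | rfl)
    · refine ⟨fun h => ?_, g, mem_of_pow S hidx (by rw [← hg, pow_orderOf_eq_one]), rfl, by rw [hg]; exact prime_sq_not_dvd hp.out⟩
      have := orderOf_of_mk h
      rw [orderOf_one, hg] at this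
      exact hp.out.one_lt.ne' this
    · refine ⟨fun h => ?_, b₁, h1, rfl, prime_sq_not_dvd hq1⟩
      have := orderOf_of_mk h
      rw [orderOf_one] at this
      exact hq1.one_lt.ne' this
    · refine ⟨fun h => ?_, b₂, h2, rfl, prime_sq_not_dvd hq2⟩
      have := orderOf_of_mk h
      rw [orderOf_one] at this
      exact hq2.one_lt.ne' this
  have e2 := Set.ncard_le_ncard e1
  rw [Set.ncard_union_eq ?_, Set.ncard_pair] at e2
  · exact e2
  · intro h
    exact hne (orderOf_of_mk h)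
  · rw [Set.disjoint_left]
    rintro c ⟨g, rfl, hg⟩ (h | h)
    · exact hp1 (by rw [← hg]; exact (orderOf_of_mk h).symm)
    · exact hp2 (by rw [← hg]; exact (orderOf_of_mk h).symm)

theorem kreg_add_le : kreg p A + Nat.card {c : ConjClasses A // ∃ g : A, ConjClasses.mk g = c ∧ orderOf g = p} ≤
    kap p A := by
  unfold kreg kap
  have e1 : ({c : ConjClasses A | ∃ g : A, ConjClasses.mk g = c ∧ ¬ p ∣ orderOf g} ∪
      {c : ConjClasses A | ∃ g : A, ConjClasses.mk g = c ∧ orderOf g = p}) ⊆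
      {c : ConjClasses A | ∃ g : A, ConjClasses.mk g = c ∧ ¬ p ^ 2 ∣ orderOf g} := by
    rintro c (⟨g, rfl, hg⟩ | ⟨g, rfl, hg⟩)
    · exact ⟨g, rfl, fun h => hg ((dvd_pow_self p two_ne_zero).trans h)⟩
    · exact ⟨g, rfl, by rw [hg]; exact prime_sq_not_dvd hp.out⟩
  have e2 := Set.ncard_le_ncard e1
  rw [Set.ncard_union_eq] at e2
  · exact e2
  · rw [Set.disjoint_left]
    rintro c ⟨g, rfl, hg⟩ ⟨h, e, hh⟩
    rw [← orderOf_of_mk e, hh] at hg
    exact hg dvd_rfl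

/-- elements of two different prime orders different from `p` -/
theorem exists_two (hs : IsSimpleGroup S) (hna : ¬ IsMulCommutative S) : ∃ b₁ b₂ : A, b₁ ∈ S ∧ b₂ ∈ S ∧
    (orderOf b₁).Prime ∧ (orderOf b₂).Prime ∧ orderOf b₁ ≠ orderOf b₂ ∧ orderOf b₁ ≠ p ∧ orderOf b₂ ≠ p := by
  have hns : ¬ Group.IsSolvable S := by
    intro h
    apply hna
    exact ⟨⟨fun a b => (IsSimpleGroup.comm_iff_isSolvable (G := S)).2 h a b⟩⟩
  have h3 := three_primes hns
  have h4 : 2 ≤ ((Nat.card S).primeFactors.erase p).card := by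
    have := Finset.pred_card_le_card_erase (s := (Nat.card S).primeFactors) (a := p)
    omega
  obtain ⟨s, hss, hsc⟩ := Finset.exists_subset_card_eq h4
  obtain ⟨q, r, hqr, rfl⟩ := Finset.card_eq_two.1 hsc
  have hq := Finset.mem_erase.1 (hss (by simp : q ∈ ({q, r} : Finset ℕ)))
  have hr := Finset.mem_erase.1 (hss (by simp : r ∈ ({q, r} : Finset ℕ)))
  have fq : Fact q.Prime := ⟨Nat.prime_of_mem_primeFactors hq.2⟩
  have fr : Fact r.Prime := ⟨Nat.prime_of_mem_primeFactors hr.2⟩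
  obtain ⟨⟨x, hxS⟩, hx⟩ := exists_prime_orderOf_dvd_card' (G := S) q (Nat.dvd_of_mem_primeFactors hq.2)
  obtain ⟨⟨y, hyS⟩, hy⟩ := exists_prime_orderOf_dvd_card' (G := S) r (Nat.dvd_of_mem_primeFactors hr.2)
  rw [Subgroup.orderOf_mk] at hx hy
  exact ⟨x, y, hxS, hyS, by rw [hx]; exact fq.out, by rw [hy]; exact fr.out, by rw [hx, hy]; exact hqr,
    by rw [hx]; exact hq.1, by rw [hy]; exact hr.1⟩

end AS

/-- the arithmetic in the cyclic case -/
theorem arith1 {p t m k K x e y X : ℕ} (ht : 1 ≤ t) (h1 : t * m + 1 + X ≤ k) (h2 : y ≤ X * t) (h3 : K ≤ m + 1 + y)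
    (hm : x + 2 ≤ m) (hK : e + 1 + x ≤ K) (hex : e * x = p - 1) : 4 * (p - 1) < k ^ 2 := by
  rw [← hex]
  have h4 : t ^ 2 * x + e < t * k := by
    have h5 : t * (t * m + 1 + X) ≤ t * k := Nat.mul_le_mul_left t h1
    have h6 : t ^ 2 * m = (t ^ 2 - 1) * m + m := by
      have : 1 ≤ t ^ 2 := Nat.one_le_pow _ _ ht
      obtain ⟨c, hc⟩ : ∃ c, t ^ 2 = c + 1 := ⟨t ^ 2 - 1, by omega⟩
      rw [hc]
      simp only [_root_.add_tsub_cancel_right]
      ring
    have h7 : (t ^ 2 - 1) * (x + 2) ≤ (t ^ 2 - 1) * m := Nat.mul_le_mul_left _ hm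
    have h8 : (t ^ 2 - 1) * (x + 2) + (x + 2) = t ^ 2 * (x + 2) := by
      have : 1 ≤ t ^ 2 := Nat.one_le_pow _ _ ht
      obtain ⟨c, hc⟩ : ∃ c, t ^ 2 = c + 1 := ⟨t ^ 2 - 1, by omega⟩
      rw [hc]
      simp only [_root_.add_tsub_cancel_right]
      ring
    nlinarith
  have h5 : 4 * (t ^ 2 * x * e) ≤ (t ^ 2 * x + e) ^ 2 := by
    zify
    linarith only [sq_nonneg (((t : ℤ) ^ 2 * x) - e)]
  have h6 : (t ^ 2 * x + e) ^ 2 < (t * k) ^ 2 := Nat.pow_lt_pow_left h4 two_ne_zero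
  have h7 : t ^ 2 * (4 * (e * x)) < t ^ 2 * k ^ 2 := by
    calc t ^ 2 * (4 * (e * x)) = 4 * (t ^ 2 * x * e) := by ring
      _ ≤ (t ^ 2 * x + e) ^ 2 := h5
      _ < (t * k) ^ 2 := h6
      _ = t ^ 2 * k ^ 2 := by ring
  exact Nat.lt_of_mul_lt_mul_left h7

/-- the arithmetic in the noncyclic case -/
theorem arith2 {p t m k K y X : ℕ} (hp : 5 ≤ p) (ht : 1 ≤ t) (h1 : t * m + 1 + X ≤ k) (h2 : y ≤ X * t)
    (h3 : K ≤ m + 1 + y) (hm : 3 ≤ m) (hK : p ≤ K) : 4 * (p - 1) < k ^ 2 := by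
  obtain ⟨q, rfl⟩ : ∃ q, p = q + 1 := ⟨p - 1, by omega⟩
  simp only [Nat.add_sub_cancel]
  obtain ⟨s, rfl⟩ : ∃ s, t = s + 1 := ⟨t - 1, by omega⟩
  have h4 : 3 * (s ^ 2 + 2 * s) + q + 1 + s ≤ (s + 1) * k := by
    have h5 : (s + 1) * ((s + 1) * m + 1 + X) ≤ (s + 1) * k := Nat.mul_le_mul_left _ h1
    have h7 : (s ^ 2 + 2 * s) * 3 ≤ (s ^ 2 + 2 * s) * m := Nat.mul_le_mul_left _ hm
    linarith only [h3, hK, h2, h5, h7]
  have h6 : (3 * (s ^ 2 + 2 * s) + q + 1 + s) ^ 2 ≤ ((s + 1) * k) ^ 2 := Nat.pow_le_pow_left h4 2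
  have h8 : (s + 1) ^ 2 * (4 * q) < (3 * (s ^ 2 + 2 * s) + q + 1 + s) ^ 2 := by
    rcases Nat.eq_zero_or_pos s with rfl | hs
    · have : (4 : ℤ) * q < (q + 1) ^ 2 := by nlinarith only [hp, sq_nonneg ((q : ℤ) - 1)]
      zify
      simpa using this
    · have h9 : (s + 1) ^ 2 < 3 * (s ^ 2 + 2 * s) + 1 + s := by linarith only [hs, _root_.sq_nonneg (↑s : ℤ)]
      have h10 : (s + 1) ^ 2 * (4 * q) < (3 * (s ^ 2 + 2 * s) + 1 + s) * (4 * q) :=
        Nat.mul_lt_mul_of_pos_right h9 (by omega)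
      refine h10.trans_le ?_
      have e1 : (3 * (s ^ 2 + 2 * s) + q + 1 + s) = (3 * (s ^ 2 + 2 * s) + 1 + s) + q := by ring
      rw [e1]
      generalize 3 * (s ^ 2 + 2 * s) + 1 + s = c
      zify
      linarith only [sq_nonneg ((c : ℤ) - q)]
  have h7 : (s + 1) ^ 2 * (4 * q) < (s + 1) ^ 2 * k ^ 2 := by
    calc (s + 1) ^ 2 * (4 * q) < _ := h8
      _ ≤ ((s + 1) * k) ^ 2 := h6
      _ = (s + 1) ^ 2 * k ^ 2 := by ring
  exact Nat.lt_of_mul_lt_mul_left h7

end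

/-! ### The image of `T` -/

section img

variable {N : Subgroup G} [N.Normal] {T : minSet N} {A : Type u} [Group A] {π : ↥(normalizer (T.1 : Set G)) →* A}

/-- the image of `T` -/
abbrev Im (π : ↥(normalizer (T.1 : Set G)) →* A) : Subgroup A :=
  (T.1.subgroupOf (normalizer (T.1 : Set G))).map π

namespace Dat

variable (D : Dat N T π)
include D

theorem im_normal : (Im π).Normal := Subgroup.Normal.map inferInstance π D.surj

theorem im_equiv : Nonempty (T.1 ≃* Im π) := by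
  let f : T.1 →* Im π :=
    { toFun := fun s => ⟨π ⟨s, le_normalizer s.2⟩, D.mem_map.2 ⟨s, s.2, rfl⟩⟩
      map_one' := Subtype.ext (map_one π)
      map_mul' := fun a b => Subtype.ext (map_mul π ⟨a, le_normalizer a.2⟩ ⟨b, le_normalizer b.2⟩) }
  refine ⟨MulEquiv.ofBijective f ⟨?_, ?_⟩⟩
  · rw [injective_iff_map_eq_one]
    intro s hs
    exact Subtype.ext (D.inj s.2 (congrArg Subtype.val hs))
  · rintro ⟨b, hb⟩
    obtain ⟨s, hs, rfl⟩ := D.mem_map.1 hb
    exact ⟨⟨s, hs⟩, rfl⟩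

theorem im_simple : IsSimpleGroup (Im π) := by
  obtain ⟨e⟩ := D.im_equiv
  have : IsSimpleGroup T.1 := D.str.simple T
  exact e.symm.isSimpleGroup

theorem im_nonab : ¬ IsMulCommutative (Im π) := by
  obtain ⟨e⟩ := D.im_equiv
  intro h
  apply D.str.nonabelian T
  intro x y
  apply e.injective
  rw [map_mul, map_mul]
  exact h.is_comm.comm _ _

theorem im_cen : centralizer ((Im π : Subgroup A) : Set A) = ⊥ := by
  rw [eq_bot_iff]
  intro b hb
  obtain ⟨u, rfl⟩ := D.surj b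
  rw [mem_bot, D.ker]
  intro s hs
  have h1 := mem_centralizer_iff.1 hb (π ⟨s, le_normalizer hs⟩) (D.mem_map.2 ⟨s, hs, rfl⟩)
  have h2 : (u : G) * s * (u : G)⁻¹ ∈ T.1 := (mem_normalizer_iff.1 u.2 s).1 hs
  have h3 : (u : G) * s * (u : G)⁻¹ * s⁻¹ = 1 := by
    apply D.inj (mul_mem h2 (inv_mem hs))
    have h4 : (⟨(u : G) * s * (u : G)⁻¹ * s⁻¹, le_normalizer (mul_mem h2 (inv_mem hs))⟩ :
        ↥(normalizer (T.1 : Set G))) = u * ⟨s, le_normalizer hs⟩ * u⁻¹ * ⟨s, le_normalizer hs⟩⁻¹ := rfl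
    rw [h4, map_mul, map_mul, map_mul, map_inv, map_inv, mul_inv_eq_one, mul_inv_eq_iff_eq_mul]
    exact h1.symm
  exact mul_inv_eq_iff_eq_mul.1 (mul_inv_eq_one.1 h3)

theorem im_index [Finite G] {p : ℕ} (h : ¬ p ∣ N.index) : ¬ p ∣ (Im π).index := by
  intro hd
  apply h
  have h1 : (Im π).index = ((Im π).comap π).index := (index_comap_of_surjective _ D.surj).symm
  have h2 : N.subgroupOf (normalizer (T.1 : Set G)) ≤ (Im π).comap π := by
    intro x hx
    exact D.map_of_mem (x := (x : G)) hx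
  have h3 := index_dvd_of_le h2
  rw [← h1] at h3
  exact hd.trans (h3.trans (relIndex_dvd_index_of_normal N _))

theorem im_dvd [Finite G] {p : ℕ} [hp : Fact p.Prime] (h : p ∣ Nat.card N) : p ∣ Nat.card (Im π) := by
  obtain ⟨e⟩ := D.im_equiv
  rw [← Nat.card_congr e.toEquiv]
  by_contra hT
  obtain ⟨⟨x, hxN⟩, hx⟩ := exists_prime_orderOf_dvd_card' (G := N) p h
  rw [Subgroup.orderOf_mk] at hx
  have hx1 : x = 1 := by
    apply D.eq_one_of_comm
    intro V r hr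
    obtain ⟨g, rfl⟩ := D.str.trans T V
    rw [Cfsg.Agent.H531.LemX.smul_coe] at hr
    obtain ⟨r, hr, rfl⟩ := hr
    have hy : g⁻¹ * x * g⁻¹⁻¹ ∈ N := Normal.conj_mem inferInstance x hxN g⁻¹
    obtain ⟨s, hs, h1⟩ := D.split hy
    have h2 : π (⟨s, le_normalizer hs⟩⁻¹ * ⟨g⁻¹ * x * g⁻¹⁻¹, le_norm hy⟩) = 1 := (D.ker _).2 h1
    rw [map_mul, map_inv, inv_mul_eq_one] at h2
    have h3 : s ^ p = 1 := by
      apply D.inj (pow_mem hs p)
      have h4 : (⟨s ^ p, le_normalizer (pow_mem hs p)⟩ : ↥(normalizer (T.1 : Set G))) = ⟨s, le_normalizer hs⟩ ^ p := rfl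
      rw [h4, map_pow, h2, ← map_pow]
      have h5 : (⟨g⁻¹ * x * g⁻¹⁻¹, le_norm hy⟩ : ↥(normalizer (T.1 : Set G))) ^ p = 1 := by
        apply Subtype.ext
        show (g⁻¹ * x * g⁻¹⁻¹) ^ p = 1
        rw [conj_pow, ← hx, pow_orderOf_eq_one, mul_one, mul_inv_cancel]
      rw [h5, map_one]
    have h6 : s = 1 := by
      have h7 : orderOf (⟨s, hs⟩ : T.1) ∣ Nat.card T.1 := _root_.orderOf_dvd_natCard _
      rw [Subgroup.orderOf_mk] at h7
      have h8 := Nat.dvd_gcd (orderOf_dvd_of_pow_eq_one h3) h7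
      rw [(Nat.Prime.coprime_iff_not_dvd hp.out).2 hT, Nat.dvd_one] at h8
      exact orderOf_eq_one_iff.1 h8
    have h9 := (h1 r hr).map (MulAut.conj g).toMonoidHom
    have e1 : (MulAut.conj g).toMonoidHom (s⁻¹ * (g⁻¹ * x * g⁻¹⁻¹)) = x := by
      rw [h6]
      show g * (1⁻¹ * (g⁻¹ * x * g⁻¹⁻¹)) * g⁻¹ = x
      group
    rwa [e1] at h9
  rw [hx1, orderOf_one] at hx
  exact hp.out.one_lt.ne hx

end Dat

end img

/-- `T22` -/
theorem nonab_of_cyc [Finite G] {p : ℕ} [Fact p.Prime] (h5 : 5 ≤ p) (N : Subgroup G) [N.Normal]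
    (hmin : ∀ M : Subgroup G, M.Normal → M ≤ N → M = ⊥ ∨ M = N) (hN1 : N ≠ ⊥)
    (hNc : ¬ ∀ x ∈ N, ∀ y ∈ N, x * y = y * x) (hcop : ¬ p ∣ N.index) (hdN : p ∣ Nat.card N)
    (hcen : Subgroup.centralizer (N : Set G) = ⊥)
    (hIM : ∀ (A : Type u) [Group A] [Finite A] (S : Subgroup A), S.Normal → IsSimpleGroup S → ¬ IsMulCommutative S →
      Subgroup.centralizer (S : Set A) = ⊥ → p ∣ Nat.card S → ∃ χ : A → ℂ, IsIrrCharacter A χ ∧ p ∣ charDegree χ)
    (hNC : ∀ (A : Type u) [Group A] [Finite A] (S : Subgroup A), S.Normal → IsSimpleGroup S → ¬ IsMulCommutative S →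
      Subgroup.centralizer (S : Set A) = ⊥ → (∀ P : Sylow p A, ¬ IsCyclic P) → ¬ p ∣ S.index → p ≤ kreg p A)
    (hcyc : ∀ (A : Type u) [Group A] [Finite A] (P : Sylow p A), IsCyclic P → p ∣ Nat.card A →
      (∃ χ : A → ℂ, IsIrrCharacter A χ ∧ p ∣ charDegree χ) →
      ∃ e x : ℕ, e * x = p - 1 ∧ e + 1 ≤ kreg p A ∧
        x ≤ Nat.card {c : ConjClasses A // ∃ g : A, ConjClasses.mk g = c ∧ orderOf g = p}) :
    4 * (p - 1) < kap p G ^ 2 := by
  have hstr : Str N := Str.of N hmin hNc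
  obtain ⟨T0, hT0⟩ := hstr.nonempty
  let T : minSet N := ⟨T0, hT0⟩
  have : Nonempty (minSet N) := ⟨T⟩
  let π := (T.1.normalizerMonoidHom).rangeRestrict
  have D : Dat N T π := by
    refine ⟨hstr, MonoidHom.rangeRestrict_surjective _, fun u => ?_, hcen⟩
    rw [← MonoidHom.mem_ker, MonoidHom.ker_rangeRestrict, normalizerMonoidHom_ker, mem_subgroupOf, mem_centralizer_iff]
    exact ⟨fun h s hs => (h s hs).symm, fun h s hs => (h s hs).symm⟩
  have hSn := D.im_normal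
  have hidx := D.im_index hcop
  have hdS : p ∣ Nat.card (Im π) := D.im_dvd hdN
  have hcard : Nat.card (Im π) ∣ Nat.card (T.1.normalizerMonoidHom).range := card_subgroup_dvd_card _
  have i1 := D.card_in (p := p)
  have i2 := D.card_out hidx
  have i3 := kap_le (p := p) (Im π)
  have i4 := kreg_add_le (A := (T.1.normalizerMonoidHom).range) (p := p)
  obtain ⟨b₁, b₂, h1, h2, h3, h4, h6, h7, h8⟩ := exists_two (p := p) (Im π) D.im_simple D.im_nonab
  have i5 := three_le (Im π) hidx h1 h2 h3 h4 h6 h7 h8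
  have ht : 1 ≤ Nat.card (minSet N) := Nat.card_pos
  by_cases hP : ∀ P : Sylow p (T.1.normalizerMonoidHom).range, ¬ IsCyclic P
  · have i6 := hNC _ (Im π) hSn D.im_simple D.im_nonab D.im_cen hP hidx
    have i7 : 1 ≤ Nat.card {c : ConjClasses (T.1.normalizerMonoidHom).range // ∃ g : (T.1.normalizerMonoidHom).range,
        ConjClasses.mk g = c ∧ orderOf g = p} := by
      obtain ⟨g, hg⟩ := exists_prime_orderOf_dvd_card' p (hdS.trans hcard)
      have : Nonempty {c : ConjClasses (T.1.normalizerMonoidHom).range // ∃ g : (T.1.normalizerMonoidHom).range,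
        ConjClasses.mk g = c ∧ orderOf g = p} := ⟨⟨_, g, rfl, hg⟩⟩
      exact Nat.card_pos
    exact arith2 h5 ht i1 i2 i3 (Nat.le_trans (Nat.add_le_add_right i7 2) i5) (by omega)
  · push Not at hP
    obtain ⟨P, hP⟩ := hP
    obtain ⟨e, x, hex, he, hx⟩ := hcyc _ P hP (hdS.trans hcard)
      (hIM _ (Im π) hSn D.im_simple D.im_nonab D.im_cen hdS)
    exact arith1 (e := e) (x := x) ht i1 i2 i3 (Nat.le_trans (Nat.add_le_add_right hx 2) i5) (by omega) hex

end Cfsg.Agent.H978.Alm.Nonab
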